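import Groth.Agent.HomAff19.Map
import Groth.Agent.TwHom19.Global
import Groth.Agent.DescLib.DescFinite
import Groth.Agent.MultDefLib.SubgroupTransp
import Groth.Agent.AlgSpLib.Descends

/-!
# Schemes of homomorphisms from a finite flat group to an affine group
-/

universe u

open CategoryTheory CategoryTheory.Limits MonoidalCategory CartesianMonoidalCategory MonObj GrpObj AlgebraicGeometry

set_option linter.style.haveILetI false

noncomputable section

namespace Groth.Agent.HomAff19

variable {S : Scheme.{u}}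

/-- The diagonalisable groups are flat. -/
theorem flat_DS (T : Scheme.{u}) (M : Type) [AddCommGroup M] : Flat (Red.DS T M).hom := by
  haveI : Flat (Red.diag (ULift.{u} ℤ) M).hom := Flat.SpecMap_iff.2
    (RingHom.flat_algebraMap_iff.2
      (inferInstance : Module.Flat (ULift.{u} ℤ) (MonoidAlgebra (ULift.{u} ℤ) (Multiplicative M))))
  exact inferInstanceAs (Flat (pullback.snd (Red.diag (ULift.{u} ℤ) M).hom _))

/-- A group of multiplicative type and of finite type is flat. -/
theorem flat_multTypeFT {H : Over S} [GrpObj H] (hH : SGA3x.IsMultTypeFT H) : Flat H.hom := by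
  obtain ⟨S', f, hflat, hsurj, hqc, hloc⟩ := hH
  choose O hO M hM hfg hiso using hloc
  have hcov : FpqcDescLib.Covers f :=
    FpqcDescLib.covers_of_hcov f ⟨S', f, 𝟙 _, Category.id_comp _, hsurj, hflat, hqc⟩
  refine hcov.descends @Flat H.hom (pullback.snd H.hom f) (pullback.fst H.hom f)
    (IsPullback.of_hasPullback H.hom f).flip ?_
  refine IsZariskiLocalAtTarget.of_forall_exists_morphismRestrict fun s' => ⟨O s', hO s', ?_⟩
  obtain ⟨i⟩ := hiso s'
  haveI := flat_DS (O s' : Scheme.{u}) (M s')
  have H1 : IsPullback ((pullback.snd H.hom f ⁻¹ᵁ O s').ι ≫ pullback.fst H.hom f)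
      (pullback.snd H.hom f ∣_ O s') H.hom ((O s').ι ≫ f) :=
    (isPullback_morphismRestrict _ _).flip.paste_horiz (IsPullback.of_hasPullback H.hom f)
  rw [← H1.isoPullback_hom_snd]
  haveI : IsIso i.hom.hom.hom.left :=
    ⟨i.inv.hom.hom.left, congrArg (fun h => h.hom.hom.left) i.hom_inv_id,
      congrArg (fun h => h.hom.hom.left) i.inv_hom_id⟩
  haveI : Flat (pullback.snd H.hom ((O s').ι ≫ f)) := by
    have hw : i.hom.hom.hom.left ≫ (Red.DS (O s' : Scheme.{u}) (M s')).hom = pullback.snd H.hom ((O s').ι ≫ f) :=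
      Over.w i.hom.hom.hom
    rw [← hw]
    infer_instance
  infer_instance

/-- The covering by all affine opens. -/
def affCover (S : Scheme.{u}) : S.OpenCover where
  I₀ := S.affineOpens
  X U := Spec Γ(S, U.1)
  f U := U.2.fromSpec
  mem₀ := by
    rw [Scheme.presieve₀_mem_precoverage_iff]
    refine ⟨fun x => ?_, inferInstance⟩
    obtain ⟨U, hU, hx, -⟩ := exists_isAffineOpen_mem_and_subset (show x ∈ (⊤ : S.Opens) from trivial)
    exact ⟨⟨U, hU⟩, hU.range_fromSpec.ge hx⟩

/-- A property of the pieces of a covering is a property of the scheme. -/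
theorem of_pieces (P : MorphismProperty Scheme.{u}) [IsZariskiLocalAtTarget P] {U : Over S}
    {A : ∀ V : S.affineOpens, Over (Spec Γ(S, V.1))}
    (e : ∀ V, Over.mk (pullback.fst V.2.fromSpec U.hom) ≅ A V) (h : ∀ V, P (A V).hom) : P U.hom := by
  refine IsZariskiLocalAtTarget.of_iSup_eq_top (P := P) _ (affCover S).iSup_opensRange fun V => ?_
  haveI : P.RespectsIso := inferInstance
  refine (P.arrow_mk_iso_iff (morphismRestrictOpensRange U.hom ((affCover S).f V))).2 ?_
  rw [← pullbackSymmetry_hom_comp_fst, P.cancel_left_of_respectsIso]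
  show P (pullback.fst V.2.fromSpec U.hom)
  rw [show pullback.fst V.2.fromSpec U.hom = (e V).hom.left ≫ (A V).hom from (Over.w (e V).hom).symm,
    P.cancel_left_of_respectsIso]
  exact h V

/-- Homomorphisms from a finite flat group of finite presentation to an affine group form an affine scheme. -/
theorem exists_hom (H G : Over S) [GrpObj H] [GrpObj G] [IsFinite H.hom] [Flat H.hom]
    [LocallyOfFinitePresentation H.hom] [IsAffineHom G.hom] :
    ∃ (A : Over S) (υ : H ⊗ A ⟶ G), AutFam.RepresentsHom H G A υ ∧ IsAffineHom A.hom ∧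
      (LocallyOfFiniteType G.hom → LocallyOfFiniteType A.hom) ∧
      (LocallyOfFinitePresentation G.hom → LocallyOfFinitePresentation A.hom) := by
  let X : S.affineOpens → Scheme.{u} := fun U => Spec Γ(S, U.1)
  let f : ∀ U, X U ⟶ S := fun U => U.2.fromSpec
  haveI : ∀ U, Etale (f U) := fun U => inferInstanceAs (Etale U.2.fromSpec)
  have hloc : ∀ U : S.affineOpens, ∃ (A : Over (X U)) (υ : H ⊗ (Over.map (f U)).obj A ⟶ G),
      MultDefLib.RepOn (f U) A υ ∧ IsAffineHom A.hom ∧
        (LocallyOfFiniteType G.hom → LocallyOfFiniteType A.hom) ∧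
        (LocallyOfFinitePresentation G.hom → LocallyOfFinitePresentation A.hom) := by
    intro U
    haveI : IsFinite (Red.bc (f U) H).hom := inferInstanceAs (IsFinite (pullback.snd H.hom (f U)))
    haveI : Flat (Red.bc (f U) H).hom := inferInstanceAs (Flat (pullback.snd H.hom (f U)))
    haveI : LocallyOfFinitePresentation (Red.bc (f U) H).hom :=
      inferInstanceAs (LocallyOfFinitePresentation (pullback.snd H.hom (f U)))
    haveI : IsAffineHom (Red.bc (f U) G).hom := inferInstanceAs (IsAffineHom (pullback.snd G.hom (f U)))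
    obtain ⟨A, υ', hrep, hA, hft, hfp⟩ := exists_hom_local (B := Γ(S, U.1)) (Red.bc (f U) H) (Red.bc (f U) G)
    obtain ⟨υ, hυ⟩ := MultDefLib.exists_repOn (f U) (Iso.refl _) (Iso.refl _) υ' hrep
    exact ⟨A, υ, hυ, hA, fun h => hft (inferInstanceAs (LocallyOfFiniteType (pullback.snd G.hom (f U)))),
      fun h => hfp (inferInstanceAs (LocallyOfFinitePresentation (pullback.snd G.hom (f U))))⟩
  choose A υ hrep hA hft hfp using hloc
  have hf : Presieve.ofArrows X f ∈ Scheme.fpqcPrecoverage S := TwHom19.fpqc_of_etale f fun s => by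
    obtain ⟨U, hU, hx, -⟩ := exists_isAffineOpen_mem_and_subset (show s ∈ (⊤ : S.Opens) from trivial)
    exact ⟨⟨U, hU⟩, hU.range_fromSpec.ge hx⟩
  obtain ⟨U, υU, hU, he⟩ := MultDefLib.exists_representsHom_of_cover (A := A) (υ := υ) hf hrep fun i =>
    haveI := hA i
    DescLib.indQA_of_isAffineHom _
  let e := fun i => (he i).some
  exact ⟨U, υU, hU, of_pieces @IsAffineHom e hA, fun h => of_pieces @LocallyOfFiniteType e fun i => hft i h,
    fun h => of_pieces @LocallyOfFinitePresentation e fun i => hfp i h⟩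

end Groth.Agent.HomAff19

end
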