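import Groth.Agent.HomAff19.Weil
import Groth.Agent.MultDefLib.Transp
import Groth.Agent.MultDefLib.HomFam
import Groth.Agent.MultDefLib.HomFamBC
import Groth.Agent.TransLib.Finite

/-!
# Schemes of morphisms and of homomorphisms from a finite flat scheme to an affine one, over an affine base
-/

universe u

open CategoryTheory CategoryTheory.Limits MonoidalCategory CartesianMonoidalCategory MonObj GrpObj AlgebraicGeometry

set_option linter.style.haveILetI false

noncomputable section

namespace Groth.Agent.HomAff19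

open H84WeilRes (fB spec)

section Map

variable {B : Type u} [CommRing B]

section Beta

variable {B' : Type u} [CommRing B'] [Algebra B B']

/-- The product with a scheme, as a pullback. -/
def beta (T : Over (Spec (CommRingCat.of B))) :
    (Over.map (fB B B')).obj ((Over.pullback (fB B B')).obj T) ≅ spec B B' ⊗ T :=
  Over.isoMk (pullbackSymmetry T.hom (fB B B')) (by
    show (pullbackSymmetry T.hom (fB B B')).hom ≫ pullback.fst (fB B B') T.hom ≫ fB B B' =
      pullback.snd T.hom (fB B B') ≫ fB B B'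
    rw [pullbackSymmetry_hom_comp_fst_assoc])

theorem beta_natural {T T' : Over (Spec (CommRingCat.of B))} (a : T' ⟶ T) :
    (Over.map (fB B B')).map ((Over.pullback (fB B B')).map a) ≫ (beta T).hom =
      (beta T').hom ≫ (spec B B' ◁ a) := by
  refine Over.OverMorphism.ext (pullback.hom_ext ?_ ?_)
  · change (((Over.pullback (fB B B')).map a).left ≫ (pullbackSymmetry T.hom (fB B B')).hom) ≫
        pullback.fst (fB B B') T.hom =
      ((pullbackSymmetry T'.hom (fB B B')).hom ≫ (spec B B' ◁ a).left) ≫ pullback.fst (fB B B') T.hom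
    simp only [Category.assoc, pullbackSymmetry_hom_comp_fst]
    erw [Over.whiskerLeft_left_fst]
    erw [pullbackSymmetry_hom_comp_fst]
    exact pullback.lift_snd _ _ _
  · change (((Over.pullback (fB B B')).map a).left ≫ (pullbackSymmetry T.hom (fB B B')).hom) ≫
        pullback.snd (fB B B') T.hom =
      ((pullbackSymmetry T'.hom (fB B B')).hom ≫ (spec B B' ◁ a).left) ≫ pullback.snd (fB B B') T.hom
    simp only [Category.assoc, pullbackSymmetry_hom_comp_snd]
    erw [Over.whiskerLeft_left_snd]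
    erw [pullbackSymmetry_hom_comp_snd_assoc]
    exact pullback.lift_fst _ _ _

end Beta

/-- Morphisms from a finite flat scheme of finite presentation to an affine scheme form an affine scheme. -/
theorem exists_map (H G : Over (Spec (CommRingCat.of B))) [IsFinite H.hom] [Flat H.hom]
    [LocallyOfFinitePresentation H.hom] [IsAffineHom G.hom] :
    ∃ (M : Over (Spec (CommRingCat.of B))) (υ : H ⊗ M ⟶ G), IsAffineHom M.hom ∧
      (LocallyOfFiniteType G.hom → LocallyOfFiniteType M.hom) ∧
      (LocallyOfFinitePresentation G.hom → LocallyOfFinitePresentation M.hom) ∧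
      ∀ (T : Over (Spec (CommRingCat.of B))) (φ : H ⊗ T ⟶ G), ∃! a : T ⟶ M, (H ◁ a) ≫ υ = φ := by
  haveI : IsAffine H.left := isAffine_of_isAffineHom H.hom
  let ψ := Spec.preimage (H.left.isoSpec.inv ≫ H.hom)
  letI : Algebra B Γ(H.left, ⊤) := ψ.hom.toAlgebra
  let eH : H ≅ spec B Γ(H.left, ⊤) := Over.isoMk H.left.isoSpec (by
    change H.left.isoSpec.hom ≫ Spec.map ψ = H.hom
    rw [Spec.map_preimage, Iso.hom_inv_id_assoc])
  have hψ : Spec.map ψ = H.left.isoSpec.inv ≫ H.hom := Spec.map_preimage _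
  haveI : Module.Finite B Γ(H.left, ⊤) := by
    have h1 : IsFinite (Spec.map ψ) := by rw [hψ]; infer_instance
    exact (IsFinite.SpecMap_iff ψ).1 h1
  haveI : Module.Flat B Γ(H.left, ⊤) := by
    have h1 : Flat (Spec.map ψ) := by rw [hψ]; infer_instance
    exact Flat.SpecMap_iff.1 h1
  haveI : Algebra.FinitePresentation B Γ(H.left, ⊤) := by
    have h1 : LocallyOfFinitePresentation (Spec.map ψ) := by rw [hψ]; infer_instance
    exact (HasRingHomProperty.Spec_iff (P := @LocallyOfFinitePresentation)).1 h1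
  haveI : Module.FinitePresentation B Γ(H.left, ⊤) :=
    Module.FinitePresentation.of_finite_of_finitePresentation _ _
  haveI : Module.Projective B Γ(H.left, ⊤) := Module.Flat.projective_of_finitePresentation
  let f := fB B Γ(H.left, ⊤)
  haveI : IsAffine ((Over.pullback f).obj G).left := by
    haveI : IsAffineHom ((Over.pullback f).obj G).hom :=
      inferInstanceAs (IsAffineHom (pullback.snd G.hom f))
    exact isAffine_of_isAffineHom ((Over.pullback f).obj G).hom
  obtain ⟨R, q, hR, hft, hfp, hq⟩ := exists_isWeilRes' B Γ(H.left, ⊤) ((Over.pullback f).obj G)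
  let υ₀ : spec B Γ(H.left, ⊤) ⊗ R ⟶ G :=
    (beta R).inv ≫ ((Over.mapPullbackAdj f).homEquiv _ G).symm q
  refine ⟨R, (eH.hom ▷ R) ≫ υ₀, inferInstance,
    fun h => hft (inferInstanceAs (LocallyOfFiniteType (pullback.snd G.hom f))),
    fun h => hfp (inferInstanceAs (LocallyOfFinitePresentation (pullback.snd G.hom f))), fun T φ => ?_⟩
  let φ₀ : spec B Γ(H.left, ⊤) ⊗ T ⟶ G := (eH.inv ▷ T) ≫ φ
  have key : ∀ a : T ⟶ R, (H ◁ a) ≫ (eH.hom ▷ R) ≫ υ₀ = φ ↔
      WeilRes.restr f q T a = ((Over.mapPullbackAdj f).homEquiv _ G) ((beta T).hom ≫ φ₀) := by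
    intro a
    rw [whisker_exchange_assoc, ← cancel_epi (eH.inv ▷ T), ← comp_whiskerRight_assoc, Iso.inv_hom_id,
      id_whiskerRight, Category.id_comp, ← cancel_epi (beta T).hom, ← Equiv.symm_apply_eq]
    simp only [υ₀, φ₀]
    rw [← Category.assoc (beta T).hom, ← beta_natural, Category.assoc, Iso.hom_inv_id_assoc,
      ← Adjunction.homEquiv_naturality_left_symm]
    exact Iff.rfl
  obtain ⟨a, ha⟩ := (hq T).2 (((Over.mapPullbackAdj f).homEquiv _ G) ((beta T).hom ≫ φ₀))
  exact ⟨a, (key a).2 ha, fun a' ha' => (hq T).1 (((key a').1 ha').trans ha.symm)⟩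

end Map

/-- Loci of equality of two families of points over a finite flat scheme of finite presentation. -/
theorem exists_equality_locus {S : Scheme.{u}} {W X Y : Over S} [IsFinite W.hom] [Flat W.hom]
    [LocallyOfFinitePresentation W.hom] [IsSeparated Y.hom] (a b : W ⊗ X ⟶ Y) :
    ∃ (Z : Over S) (c : Z ⟶ X), IsClosedImmersion c.left ∧
      (LocallyOfFiniteType Y.hom → LocallyOfFinitePresentation c.left) ∧
      ∀ {P : Over S} (x : P ⟶ X), (∃ z : P ⟶ Z, z ≫ c = x) ↔ (W ◁ x) ≫ a = (W ◁ x) ≫ b := by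
  obtain ⟨Z, c, hc, hfp, h⟩ := TransLib.exists_closed_universal_finite (lift a b) (lift (𝟙 Y) (𝟙 Y))
  refine ⟨Z, c, hc, fun hY => hfp (MultDefLib.lfp_diag Y), fun {P} x => (h x).trans ⟨?_, fun hx => ?_⟩⟩
  · rintro ⟨l, hl⟩
    have h1 := congrArg (· ≫ fst Y Y) hl
    have h2 := congrArg (· ≫ snd Y Y) hl
    simp only [Category.assoc, lift_fst, lift_snd, Category.comp_id] at h1 h2
    rw [← h1, ← h2]
  · exact ⟨(W ◁ x) ≫ a, by rw [comp_lift, Category.comp_id, comp_lift, ← hx]⟩

/-- Over an affine base, homomorphisms from a finite flat group to an affine group form an affine scheme. -/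
theorem exists_hom_local {B : Type u} [CommRing B] (H G : Over (Spec (CommRingCat.of B))) [GrpObj H] [GrpObj G]
    [IsFinite H.hom] [Flat H.hom] [LocallyOfFinitePresentation H.hom] [IsAffineHom G.hom] :
    ∃ (A : Over (Spec (CommRingCat.of B))) (υ : H ⊗ A ⟶ G), AutFam.RepresentsHom H G A υ ∧ IsAffineHom A.hom ∧
      (LocallyOfFiniteType G.hom → LocallyOfFiniteType A.hom) ∧
      (LocallyOfFinitePresentation G.hom → LocallyOfFinitePresentation A.hom) := by
  obtain ⟨M, υ, hM, hft, hfp, huniv⟩ := exists_map H G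
  haveI : IsFinite (H ⊗ H).hom := inferInstanceAs (IsFinite (pullback.fst H.hom H.hom ≫ H.hom))
  haveI : Flat (H ⊗ H).hom := inferInstanceAs (Flat (pullback.fst H.hom H.hom ≫ H.hom))
  haveI : LocallyOfFinitePresentation (H ⊗ H).hom :=
    inferInstanceAs (LocallyOfFinitePresentation (pullback.fst H.hom H.hom ≫ H.hom))
  obtain ⟨Z, c, hc, hcfp, hZ⟩ := exists_equality_locus ((μ[H] ▷ M) ≫ υ)
    ((lift (fst (H ⊗ H) M ≫ fst H H) (snd (H ⊗ H) M) ≫ υ) * (lift (fst (H ⊗ H) M ≫ snd H H) (snd (H ⊗ H) M) ≫ υ))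
  have hiff : ∀ {P : Over (Spec (CommRingCat.of B))} (x : P ⟶ M),
      (∃ z : P ⟶ Z, z ≫ c = x) ↔ AutFam.IsHomFamily H G ((H ◁ x) ≫ υ) := by
    intro P x
    rw [hZ]
    constructor
    · intro hx X g₁ g₂ t
      have h1 := congrArg (lift (lift g₁ g₂) t ≫ ·) hx
      simp only [lift_whiskerLeft_assoc, lift_whiskerRight_assoc, MonObj.comp_mul, comp_lift_assoc, lift_fst,
        lift_snd, lift_fst_assoc, lift_snd_assoc] at h1 ⊢
      rwa [Hom.mul_def]
    · intro hx
      have h1 := hx ((H ⊗ H) ⊗ P) (fst (H ⊗ H) P ≫ fst H H) (fst (H ⊗ H) P ≫ snd H H) (snd (H ⊗ H) P)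
      simp only [lift_whiskerLeft_assoc, Hom.mul_def, ← comp_lift, lift_fst_snd, Category.comp_id] at h1
      simp only [MonObj.comp_mul, comp_lift_assoc, whiskerLeft_fst_assoc, whiskerLeft_snd, whiskerLeft_fst] at h1 ⊢
      rw [whisker_exchange_assoc]
      refine Eq.trans ?_ h1
      rw [← lift_whiskerLeft_assoc, ← whiskerRight_fst, ← whiskerRight_snd, lift_comp_fst_snd]
  haveI : IsAffineHom c.left := inferInstance
  refine ⟨Z, (H ◁ c) ≫ υ, ⟨(hiff c).1 ⟨𝟙 _, Category.id_comp _⟩, fun T φ hφ => ?_⟩, ?_, fun h => ?_, fun h => ?_⟩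
  · obtain ⟨a, ha, hu⟩ := huniv T φ
    obtain ⟨z, rfl⟩ := (hiff a).2 (ha ▸ hφ)
    haveI : Mono c := Over.mono_of_mono_left c
    refine ⟨z, by simpa using ha, fun z' hz' => (cancel_mono c).1 (hu _ (by simpa using hz'))⟩
  · rw [← Over.w c]; infer_instance
  · haveI := hft h
    rw [← Over.w c]; infer_instance
  · haveI := hfp h
    haveI : LocallyOfFinitePresentation c.left := hcfp inferInstance
    rw [← Over.w c]; infer_instance

end Groth.Agent.HomAff19

end
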