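import Groth.Agent.H84WeilRes.Affine

/-!
# Weil restriction of affine schemes along finite projective extensions, without finiteness conditions
-/

universe u

open CategoryTheory Limits AlgebraicGeometry TensorProduct
open Groth.Agent.H84WeilRes

namespace Groth.Agent.HomAff19

variable (B B' : Type u) [CommRing B] [CommRing B'] [Algebra B B']

/-- Evaluation of a polynomial at a family of points. -/
noncomputable def evk {κ : Type u} (D : Type u) [CommRing D] [Algebra B D] (y : κ → D ⊗[B] B') :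
    MvPolynomial κ B' →+* D ⊗[B] B' :=
  MvPolynomial.eval₂Hom (inr B B' D) y

variable {B B'}

theorem tmap_evk {κ : Type u} {D D₁ : Type u} [CommRing D] [Algebra B D] [CommRing D₁] [Algebra B D₁]
    (φ : D →ₐ[B] D₁) (y : κ → D ⊗[B] B') (g : MvPolynomial κ B') :
    tmap φ (evk B B' D y g) = evk B B' D₁ (fun i => tmap φ (y i)) g := by
  refine RingHom.congr_fun (f := (tmap φ).comp (evk B B' D y)) (MvPolynomial.ringHom_ext ?_ ?_) g
  · intro b
    simp only [RingHom.comp_apply, evk, MvPolynomial.eval₂Hom_C, tmap_inr]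
  · intro i
    simp only [RingHom.comp_apply, evk, MvPolynomial.eval₂Hom_X']

/-- The functor `D ↦ Hom_{B'}(C, D ⊗ B')` is corepresentable, with finiteness inherited from a presentation of `C`. -/
theorem exists_universal_of_presentation [Module.Finite B B'] [Module.Projective B B'] {C : Type u} [CommRing C]
    [Algebra B' C] {κ : Type u} (f : MvPolynomial κ B' →ₐ[B'] C) (hf : Function.Surjective f) :
    ∃ (R : Type u) (_ : CommRing R) (_ : Algebra B R),
      (Finite κ → Algebra.FiniteType B R) ∧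
      (Finite κ → (RingHom.ker f.toRingHom).FG → Algebra.FinitePresentation B R) ∧
      ∃ u : C →+* R ⊗[B] B', IsPoint u ∧
      ∀ (D : Type u) [CommRing D] [Algebra B D] (y : C →+* D ⊗[B] B'), IsPoint y →
        ∃! φ : R →ₐ[B] D, (tmap φ).comp u = y := by
  classical
  obtain ⟨s, hs, hsfin⟩ : ∃ s : Set (MvPolynomial κ B'),
      Ideal.span s = RingHom.ker f.toRingHom ∧ ((RingHom.ker f.toRingHom).FG → s.Finite) := by
    by_cases h : (RingHom.ker f.toRingHom).FG
    · obtain ⟨s, hs⟩ := h
      exact ⟨s, hs, fun _ => s.finite_toSet⟩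
    · exact ⟨RingHom.ker f.toRingHom, Ideal.span_eq _, fun h' => absurd h' h⟩
  obtain ⟨m, π, hπ⟩ := Module.Finite.exists_fin' B B'
  obtain ⟨σ, hσ⟩ := Module.projective_lifting_property π LinearMap.id hπ
  let e : Fin m → B' := fun t => π (Pi.single t 1)
  have hrec : ∀ b, ∑ t, σ b t • e t = b := by
    intro b
    simp only [e, ← map_smul, ← map_sum, ← Pi.single_smul', smul_eq_mul, mul_one]
    rw [Finset.univ_sum_single]
    exact LinearMap.congr_fun hσ b
  let U : κ → MvPolynomial (κ × Fin m) B ⊗[B] B' := fun i => ∑ t, MvPolynomial.X (i, t) ⊗ₜ[B] e t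
  let Q : Set (MvPolynomial (κ × Fin m) B) :=
    Set.range (fun x : κ × Fin m => co σ _ x.2 (U x.1) - MvPolynomial.X x) ∪
      Set.range (fun x : s × Fin m => co σ _ x.2 (evk B B' _ U x.1.1))
  let I := Ideal.span Q
  let q : MvPolynomial (κ × Fin m) B →ₐ[B] MvPolynomial (κ × Fin m) B ⧸ I := Ideal.Quotient.mkₐ B I
  let U' : κ → (MvPolynomial (κ × Fin m) B ⧸ I) ⊗[B] B' := fun i => tmap q (U i)
  have hker : RingHom.ker f.toRingHom ≤ RingHom.ker (evk B B' _ U') := by
    rw [← hs, Ideal.span_le]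
    intro g hg
    change evk B B' _ U' g = 0
    rw [← tmap_evk, ← sum_co σ hrec _ (tmap q (evk B B' _ U g))]
    refine Finset.sum_eq_zero fun t _ => ?_
    have hz : q (co σ _ t (evk B B' _ U g)) = 0 :=
      Ideal.Quotient.eq_zero_iff_mem.2 (Ideal.subset_span (Or.inr ⟨(⟨g, hg⟩, t), rfl⟩))
    rw [co_tmap, hz, TensorProduct.zero_tmul]
  let u : C →+* (MvPolynomial (κ × Fin m) B ⧸ I) ⊗[B] B' :=
    f.toRingHom.liftOfRightInverse (Function.surjInv hf) (Function.rightInverse_surjInv hf) ⟨evk B B' _ U', hker⟩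
  have hu : ∀ g, u (f g) = evk B B' _ U' g := fun g =>
    RingHom.liftOfRightInverse_comp_apply f.toRingHom _ _ ⟨evk B B' _ U', hker⟩ g
  have hfC : ∀ b, algebraMap B' C b = f (MvPolynomial.C b) := fun b => (f.commutes b).symm
  have hup : IsPoint u := RingHom.ext fun b =>
    ((congrArg u (hfC b)).trans (hu _)).trans (MvPolynomial.eval₂Hom_C _ _ b)
  refine ⟨_, inferInstance, inferInstance, fun _ => inferInstance, fun _ hfg => ?_, u, hup,
    fun D _ _ y hy => ?_⟩
  · have := (hsfin hfg).to_subtype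
    exact Algebra.FinitePresentation.quotient
      (Submodule.fg_def.2 ⟨Q, (Set.finite_range _).union (Set.finite_range _), rfl⟩)
  let Y : κ → D ⊗[B] B' := fun i => y (f (MvPolynomial.X i))
  have hY : ∀ g, evk B B' D Y g = y (f g) := fun g => by
    refine RingHom.congr_fun (g := y.comp f.toRingHom) (MvPolynomial.ringHom_ext ?_ ?_) g
    · intro b
      exact (MvPolynomial.eval₂Hom_C _ _ b).trans (((congrArg y (hfC b)).symm.trans (RingHom.congr_fun hy b)).symm)
    · intro i
      exact MvPolynomial.eval₂Hom_X' _ _ i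
  let ψ : MvPolynomial (κ × Fin m) B →ₐ[B] D := MvPolynomial.aeval fun x => co σ D x.2 (Y x.1)
  have hψX : ∀ i t, ψ (MvPolynomial.X (i, t)) = co σ D t (Y i) := fun i t => MvPolynomial.aeval_X _ _
  have hψU : ∀ i, tmap ψ (U i) = Y i := by
    intro i
    refine ((map_sum _ _ _).trans (Finset.sum_congr rfl fun t _ => ?_)).trans (sum_co σ hrec D (Y i))
    rw [tmap_tmul, hψX]
  have hψ : I ≤ RingHom.ker ψ.toRingHom := by
    rw [Ideal.span_le]
    rintro z (⟨⟨i, t⟩, rfl⟩ | ⟨⟨g, t⟩, rfl⟩)
    · change ψ (co σ _ t (U i) - MvPolynomial.X (i, t)) = 0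
      rw [map_sub, ← co_tmap, hψU, hψX, sub_self]
    · change ψ (co σ _ t (evk B B' _ U g.1)) = 0
      have h2 : f g.1 = 0 := by
        have h3 : g.1 ∈ RingHom.ker f.toRingHom := hs ▸ Ideal.subset_span g.2
        exact h3
      rw [← co_tmap, tmap_evk, funext hψU, hY, h2, map_zero, map_zero]
  refine ⟨Ideal.Quotient.liftₐ I ψ fun a ha => hψ ha, ?_, fun φ' hφ' => ?_⟩
  · refine RingHom.ext fun c => ?_
    obtain ⟨g, rfl⟩ := hf c
    rw [RingHom.comp_apply, hu, tmap_evk, ← hY]
    congr 1
    refine congrArg _ (funext fun i => ?_)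
    rw [← hψU i, ← tmap_comp]
    rfl
  · refine Ideal.Quotient.algHom_ext B (MvPolynomial.algHom_ext fun ⟨i, t⟩ => ?_)
    refine Eq.trans ?_ (hψX i t).symm
    have hz : q (co σ _ t (U i)) = q (MvPolynomial.X (i, t)) :=
      Ideal.Quotient.eq.2 (Ideal.subset_span (Or.inl ⟨(i, t), rfl⟩))
    change φ' (q (MvPolynomial.X (i, t))) = _
    rw [← hz, ← co_tmap, ← co_tmap]
    refine congrArg (co σ D t) ?_
    have h1 := RingHom.congr_fun hφ' (f (MvPolynomial.X i))
    rw [RingHom.comp_apply, hu,
      show evk B B' _ U' (MvPolynomial.X i) = U' i from MvPolynomial.eval₂Hom_X' _ _ i] at h1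
    exact h1

variable (B B') in
/-- The functor `D ↦ Hom_{B'}(C, D ⊗ B')` is corepresentable. -/
theorem exists_universal' [Module.Finite B B'] [Module.Projective B B'] (C : Type u) [CommRing C] [Algebra B' C] :
    ∃ (R : Type u) (_ : CommRing R) (_ : Algebra B R),
      (Algebra.FiniteType B' C → Algebra.FiniteType B R) ∧
      (Algebra.FinitePresentation B' C → Algebra.FinitePresentation B R) ∧
      ∃ u : C →+* R ⊗[B] B', IsPoint u ∧
      ∀ (D : Type u) [CommRing D] [Algebra B D] (y : C →+* D ⊗[B] B'), IsPoint y →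
        ∃! φ : R →ₐ[B] D, (tmap φ).comp u = y := by
  by_cases h : Algebra.FinitePresentation B' C
  · obtain ⟨R, i₁, i₂, i₃, u, hu⟩ := exists_universal B B' C
    exact ⟨R, i₁, i₂, fun _ => Algebra.FiniteType.of_finitePresentation, fun _ => i₃, u, hu⟩
  by_cases h' : Algebra.FiniteType B' C
  · obtain ⟨κ, _, f, hf⟩ := Algebra.FiniteType.iff_quotient_mvPolynomial'.mp h'
    obtain ⟨R, i₁, i₂, hft, -, u, hu⟩ := exists_universal_of_presentation (B := B) f hf
    exact ⟨R, i₁, i₂, fun _ => hft inferInstance, fun h₂ => absurd h₂ h, u, hu⟩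
  · obtain ⟨R, i₁, i₂, -, -, u, hu⟩ := exists_universal_of_presentation (B := B)
      (MvPolynomial.aeval (R := B') (id : C → C)) (fun c => ⟨MvPolynomial.X c, MvPolynomial.aeval_X _ _⟩)
    exact ⟨R, i₁, i₂, fun h₂ => absurd h₂ h', fun h₂ => absurd h₂ h, u, hu⟩

variable (B B') in
/-- An affine scheme over a finite projective extension has an affine Weil restriction. -/
theorem exists_isWeilRes' [Module.Finite B B'] [Module.Projective B B']
    (X' : Over (Spec (CommRingCat.of B'))) [IsAffine X'.left] :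
    ∃ (R : Over (Spec (CommRingCat.of B))) (q : (Over.pullback (fB B B')).obj R ⟶ X'),
      IsAffine R.left ∧ (LocallyOfFiniteType X'.hom → LocallyOfFiniteType R.hom) ∧
      (LocallyOfFinitePresentation X'.hom → LocallyOfFinitePresentation R.hom) ∧
      WeilRes.IsWeilRes (fB B B') X' R q := by
  let ψ := Spec.preimage (X'.left.isoSpec.inv ≫ X'.hom)
  letI : Algebra B' Γ(X'.left, ⊤) := ψ.hom.toAlgebra
  let e : X' ≅ specC (B' := B') Γ(X'.left, ⊤) := Over.isoMk X'.left.isoSpec (by
    change X'.left.isoSpec.hom ≫ Spec.map ψ = X'.hom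
    rw [Spec.map_preimage, Iso.hom_inv_id_assoc])
  obtain ⟨R, _, _, hft, hfp, u, hu, hun⟩ := exists_universal' B B' Γ(X'.left, ⊤)
  refine ⟨spec B R, pointMor u hu ≫ e.inv, inferInstanceAs (IsAffine (Spec _)), fun h => ?_, fun h => ?_, fun T => ?_⟩
  · have h1 : LocallyOfFiniteType (Spec.map ψ) := by
      rw [Spec.map_preimage]; infer_instance
    exact (HasRingHomProperty.Spec_iff (P := @LocallyOfFiniteType)).2
      (RingHom.finiteType_algebraMap.2 (hft ((HasRingHomProperty.Spec_iff (P := @LocallyOfFiniteType)).1 h1)))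
  · have h1 : LocallyOfFinitePresentation (Spec.map ψ) := by
      rw [Spec.map_preimage]; infer_instance
    exact (HasRingHomProperty.Spec_iff (P := @LocallyOfFinitePresentation)).2
      (RingHom.finitePresentation_algebraMap.2
        (hfp ((HasRingHomProperty.Spec_iff (P := @LocallyOfFinitePresentation)).1 h1)))
  · have h := H84WeilRes.isWeilRes u hu hun T
    constructor
    · intro g g' hg
      refine h.1 ((cancel_mono e.inv).1 ?_)
      simpa [WeilRes.restr, Category.assoc] using hg
    · intro a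
      obtain ⟨g, hg⟩ := h.2 (a ≫ e.hom)
      refine ⟨g, ?_⟩
      simp only [WeilRes.restr] at hg ⊢
      rw [← Category.assoc, hg, Category.assoc, e.hom_inv_id, Category.comp_id]

end Groth.Agent.HomAff19
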